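import Mathlib.Algebra.Category.ModuleCat.Basic
import Mathlib.RingTheory.Finiteness.Basic
import Mathlib.RingTheory.Finiteness.Prod
import Mathlib.RingTheory.Regular.RegularSequence
import Mathlib.LinearAlgebra.Quotient.Basic

/-!
# Iterated cones of `A` on a list of elements
-/

set_option autoImplicit false
set_option backward.isDefEq.respectTransparency false
set_option linter.style.haveILetI false

universe u

namespace Groth.Agent.H4DR.PtwiseFID

variable {A : Type u} [CommRing A]

/-- A finite complex of modules with the properties of a Koszul complex on `l`. -/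
structure Kz (P : ModuleCat.{u} A → Prop) (l : List A) where
  C : ℕ → ModuleCat.{u} A
  d : ∀ j, C (j + 1) →ₗ[A] C j
  dd : ∀ j x, d j (d (j + 1) x) = 0
  fin : ∀ j, Module.Finite A (C j)
  good : ∀ j, P (C j)
  top : ∀ j, l.length < j → Subsingleton (C j)
  ε : C 0 ≃ₗ[A] A
  hI : (LinearMap.range (d 0)).map ε.toLinearMap = Ideal.ofList l
  kill : ∀ y ∈ l, ∃ h : ∀ j, C j →ₗ[A] C (j + 1), (∀ a, d 0 (h 0 a) = y • a) ∧
    ∀ j a, d (j + 1) (h (j + 1) a) + h j (d j a) = y • a

namespace Kz

variable {P : ModuleCat.{u} A → Prop} {l : List A}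

/-- The empty complex. -/
def nil (hA : P (ModuleCat.of A A)) (h0 : P (ModuleCat.of A PUnit.{u + 1})) : Kz P ([] : List A) where
  C j := match j with
    | 0 => ModuleCat.of A A
    | _ + 1 => ModuleCat.of A PUnit.{u + 1}
  d j := 0
  dd j x := rfl
  fin j := match j with
    | 0 => inferInstanceAs (Module.Finite A A)
    | _ + 1 => inferInstanceAs (Module.Finite A PUnit.{u + 1})
  good j := match j with
    | 0 => hA
    | _ + 1 => h0
  top j hj := match j with
    | 0 => absurd hj (by simp)
    | _ + 1 => inferInstanceAs (Subsingleton PUnit.{u + 1})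
  ε := LinearEquiv.refl A A
  hI := by simp
  kill y hy := absurd hy List.not_mem_nil

variable (K : Kz P l) (x : A)

/-- The terms of the cone. -/
def coneC : ℕ → ModuleCat.{u} A
  | 0 => K.C 0
  | j + 1 => ModuleCat.of A (K.C (j + 1) × K.C j)

/-- The differentials of the cone. -/
def coneD : ∀ j, coneC K (j + 1) →ₗ[A] coneC K j
  | 0 => (K.d 0).coprod (x • LinearMap.id)
  | j + 1 => ((K.d (j + 1)).coprod (x • LinearMap.id)).prod
      ((-K.d j).comp (LinearMap.snd A (K.C (j + 1 + 1)) (K.C (j + 1))))

lemma coneD_zero (a : K.C 1) (b : K.C 0) : coneD K x 0 ((a, b) : K.C 1 × K.C 0) = K.d 0 a + x • b := rfl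

lemma coneD_succ (j : ℕ) (a : K.C (j + 1 + 1)) (b : K.C (j + 1)) :
    coneD K x (j + 1) ((a, b) : K.C (j + 1 + 1) × K.C (j + 1)) =
      ((K.d (j + 1) a + x • b, -K.d j b) : K.C (j + 1) × K.C j) := rfl

/-- The cone. -/
def cone (hP : ∀ M N : ModuleCat.{u} A, P M → P N → P (ModuleCat.of A (M × N))) : Kz P (x :: l) where
  C := coneC K
  d := coneD K x
  dd j := match j with
    | 0 => fun p => by
      obtain ⟨a, b⟩ := p
      rw [coneD_succ, coneD_zero, map_add, K.dd, map_smul, smul_neg, zero_add, add_neg_cancel]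
    | j + 1 => fun p => by
      obtain ⟨a, b⟩ := p
      rw [coneD_succ, coneD_succ, map_add, K.dd, map_smul, zero_add, smul_neg, add_neg_cancel, map_neg, K.dd,
        neg_zero, neg_zero]
      exact rfl
  fin j := match j with
    | 0 => K.fin 0
    | j + 1 => by
      haveI := K.fin (j + 1)
      haveI := K.fin j
      exact inferInstanceAs (Module.Finite A (K.C (j + 1) × K.C j))
  good j := match j with
    | 0 => K.good 0
    | j + 1 => hP _ _ (K.good (j + 1)) (K.good j)
  top j hj := match j with
    | 0 => absurd hj (by simp)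
    | j + 1 => by
      simp only [List.length_cons] at hj
      haveI := K.top (j + 1) (by omega)
      haveI := K.top j (by omega)
      exact inferInstanceAs (Subsingleton (K.C (j + 1) × K.C j))
  ε := K.ε
  hI := by
    show (LinearMap.range ((K.d 0).coprod (x • LinearMap.id))).map K.ε.toLinearMap = _
    rw [LinearMap.range_coprod, Submodule.map_sup, K.hI, Ideal.ofList_cons, sup_comm]
    congr 1
    refine le_antisymm ?_ ?_
    · rintro _ ⟨_, ⟨b, rfl⟩, rfl⟩
      exact Ideal.mem_span_singleton'.2 ⟨K.ε b, by simp [mul_comm]⟩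
    · refine (Ideal.span_singleton_le_iff_mem _).2 ⟨x • K.ε.symm 1, ⟨K.ε.symm 1, rfl⟩, ?_⟩
      simp
  kill y hy := by
    rcases List.mem_cons.1 hy with rfl | hy
    · refine ⟨fun j => match j with
        | 0 => (LinearMap.inr A (K.C 1) (K.C 0) : _)
        | j + 1 => (LinearMap.inr A (K.C (j + 1 + 1)) (K.C (j + 1))).comp
            (LinearMap.fst A (K.C (j + 1)) (K.C j)), fun a => ?_, fun j => ?_⟩
      · show coneD K y 0 ((0, a) : K.C 1 × K.C 0) = y • a
        rw [coneD_zero, map_zero, zero_add]
      · cases j with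
        | zero =>
          rintro ⟨a, b⟩
          refine Prod.ext ?_ ?_
          · show (K.d 1 0 + y • a) + 0 = y • a
            rw [map_zero, zero_add, add_zero]
          · show -K.d 0 a + (K.d 0 a + y • b) = y • b
            rw [neg_add_cancel_left]
        | succ j =>
          rintro ⟨a, b⟩
          refine Prod.ext ?_ ?_
          · show (K.d (j + 1 + 1) 0 + y • a) + 0 = y • a
            rw [map_zero, zero_add, add_zero]
          · show -K.d (j + 1) a + (K.d (j + 1) a + y • b) = y • b
            rw [neg_add_cancel_left]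
    · obtain ⟨h, h0, h1⟩ := K.kill y hy
      refine ⟨fun j => match j with
        | 0 => ((h 0).prod (0 : K.C 0 →ₗ[A] K.C 0) : _)
        | j + 1 => ((h (j + 1)).comp (LinearMap.fst A (K.C (j + 1)) (K.C j))).prod
            ((-h j).comp (LinearMap.snd A (K.C (j + 1)) (K.C j))), fun a => ?_, fun j => ?_⟩
      · show coneD K x 0 ((h 0 a, 0) : K.C 1 × K.C 0) = y • a
        rw [coneD_zero, smul_zero, add_zero, h0]
      · cases j with
        | zero =>
          rintro ⟨a, b⟩
          refine Prod.ext ?_ ?_
          · show (K.d 1 (h 1 a) + x • -h 0 b) + h 0 (K.d 0 a + x • b) = y • a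
            rw [map_add, map_smul, smul_neg, ← h1 0 a]
            abel
          · show -K.d 0 (-h 0 b) + 0 = y • b
            rw [map_neg, neg_neg, h0, add_zero]
        | succ j =>
          rintro ⟨a, b⟩
          refine Prod.ext ?_ ?_
          · show (K.d (j + 1 + 1) (h (j + 1 + 1) a) + x • -h (j + 1) b) +
              h (j + 1) (K.d (j + 1) a + x • b) = y • a
            rw [map_add, map_smul, smul_neg, ← h1 (j + 1) a]
            abel
          · show -K.d (j + 1) (-h (j + 1) b) + -h j (-K.d j b) = y • b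
            rw [map_neg, map_neg, neg_neg, neg_neg, h1]

end Kz

theorem exists_kz {P : ModuleCat.{u} A → Prop} (hA : P (ModuleCat.of A A)) (h0 : P (ModuleCat.of A PUnit.{u + 1}))
    (hP : ∀ M N : ModuleCat.{u} A, P M → P N → P (ModuleCat.of A (M × N))) :
    ∀ l : List A, Nonempty (Kz P l)
  | [] => ⟨Kz.nil hA h0⟩
  | x :: l => ⟨(exists_kz hA h0 hP l).some.cone x hP⟩

end Groth.Agent.H4DR.PtwiseFID
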