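import Groth.Agent.H4DR.HT.Localize
import Groth.Agent.H4DR.FlatBC.Descent
import Groth.Agent.H4DR.PtwiseFID.Koszul

/-!
# Pointwise finite injective dimension bounds `Hom(M, R⟦i⟧)`
-/

set_option autoImplicit false
set_option linter.style.haveILetI false
set_option linter.unusedSectionVars false
set_option backward.isDefEq.respectTransparency false

universe u v w

open CategoryTheory CategoryTheory.Limits Pretriangulated TensorProduct
open Groth.Agent.H4DR.Ext
open Groth.Agent.H4DR.FlatBC (F FD)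
open Groth.Agent.H4DR.Dualizing (Loc)

attribute [local instance] HasDerivedCategory.standard

namespace Groth.Agent.H4DR.PtwiseFID

variable {A : Type u} [CommRing A]

/-- `N_q = 0`, elementwise. -/
def V (q : PrimeSpectrum A) (N : Type v) [AddCommGroup N] [Module A N] : Prop :=
  ∀ x : N, ∃ c ∉ q.asIdeal, c • x = 0

lemma V.of_subsingleton (q : PrimeSpectrum A) (N : Type v) [AddCommGroup N] [Module A N] [Subsingleton N] :
    V q N := fun x => ⟨1, q.asIdeal.primeCompl.one_mem, Subsingleton.elim _ _⟩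

lemma V.of_killed {q : PrimeSpectrum A} {c : A} (hc : c ∉ q.asIdeal) {N : Type v} [AddCommGroup N] [Module A N]
    (h : ∀ x : N, c • x = 0) : V q N := fun x => ⟨c, hc, h x⟩

lemma V.of_injective {q : PrimeSpectrum A} {N : Type v} [AddCommGroup N] [Module A N] {N' : Type w}
    [AddCommGroup N'] [Module A N'] (g : N →ₗ[A] N') (hg : Function.Injective g) (h : V q N') : V q N :=
  fun x => by
    obtain ⟨c, hc, hx⟩ := h (g x)
    exact ⟨c, hc, hg (by rw [map_smul, hx, map_zero])⟩

lemma V.of_exact {q : PrimeSpectrum A} {N N' N'' : Type v} [AddCommGroup N] [Module A N] [AddCommGroup N']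
    [Module A N'] [AddCommGroup N''] [Module A N''] (g : N →ₗ[A] N') (g' : N' →ₗ[A] N'')
    (hg : LinearMap.ker g' ≤ LinearMap.range g) (h : V q N) (h'' : V q N'') : V q N' := fun x => by
  obtain ⟨c, hc, hx⟩ := h'' (g' x)
  obtain ⟨y, hy⟩ := hg (show c • x ∈ LinearMap.ker g' by rw [LinearMap.mem_ker, map_smul, hx])
  obtain ⟨c', hc', hy'⟩ := h y
  exact ⟨c' * c, fun hm => (q.2.mem_or_mem hm).elim hc' hc, by rw [mul_smul, ← hy, ← map_smul, hy', map_zero]⟩

variable (R : Dual.D A)

/-- `Hom(M, R⟦i⟧)`. -/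
abbrev E (M : Type u) [AddCommGroup M] [Module A M] (i : ℤ) : Type (u + 1) := Ex (Dual.inD A M) R i

section Seq

variable {q : PrimeSpectrum A} {L M N : Type u} [AddCommGroup L] [Module A L] [AddCommGroup M] [Module A M]
  [AddCommGroup N] [Module A N] (f : L →ₗ[A] M) (g : M →ₗ[A] N) (hf : Function.Injective f)
  (hg : Function.Surjective g) (hfg : Function.Exact f g)

include hf hg hfg

theorem v_mid {i : ℤ} (h₁ : V q (E R L i)) (h₃ : V q (E R N i)) : V q (E R M i) := by
  obtain ⟨δ, hT⟩ := exists_triangle f g hf hg hfg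
  exact V.of_exact _ _ (LinearMap.exact_iff.1 (exact_pre₂ _ hT (R⟦i⟧))).le h₃ h₁

theorem v_left {i j : ℤ} (hij : i + 1 = j) (h₂ : V q (E R M i)) (h₃ : V q (E R N j)) : V q (E R L i) := by
  obtain ⟨δ, hT⟩ := exists_triangle f g hf hg hfg
  exact V.of_exact _ _ (ker_conn_le _ hT hij) h₂ h₃

theorem v_right {i j : ℤ} (hij : i + 1 = j) (h₁ : V q (E R L i)) (h₂ : V q (E R M j)) : V q (E R N j) := by
  obtain ⟨δ, hT⟩ := exists_triangle f g hf hg hfg
  exact V.of_exact _ _ (LinearMap.exact_iff.1 (exact_pre₂ _ (rot_of_distTriang _ hT) (R⟦j⟧))).le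
    (V.of_injective (shiftSrc _ R 1 i j hij).symm.toLinearMap (LinearEquiv.injective _) h₁) h₂

end Seq

theorem v_congr {q : PrimeSpectrum A} {M N : Type u} [AddCommGroup M] [Module A M] [AddCommGroup N] [Module A N]
    (e : M ≃ₗ[A] N) {i : ℤ} (h : V q (E R N i)) : V q (E R M i) :=
  V.of_injective (exCongr e (R⟦i⟧)).symm.toLinearMap (LinearEquiv.injective _) h

theorem smul_eq_zero_of_killed {M : Type u} [AddCommGroup M] [Module A M] {c : A} (hc : ∀ m : M, c • m = 0)
    {i : ℤ} (x : E R M i) : c • x = 0 := by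
  have h1 : c • 𝟙 (Dual.inD A M) = 0 := by
    refine (inM_smul_id (ModuleCat.of A M) c).symm.trans ?_
    rw [show c • 𝟙 (ModuleCat.of A M) = 0 from ModuleCat.hom_ext (LinearMap.ext hc), Functor.map_zero]
  calc c • x = (c • 𝟙 (Dual.inD A M)) ≫ x := by rw [Linear.smul_comp, Category.id_comp]
    _ = 0 := by rw [h1, zero_comp]

theorem v_retract {q : PrimeSpectrum A} {M N : Type u} [AddCommGroup M] [Module A M] [AddCommGroup N] [Module A N]
    (s : M →ₗ[A] N) (r : N →ₗ[A] M) (hrs : r ∘ₗ s = LinearMap.id) {i : ℤ} (h : V q (E R N i)) :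
    V q (E R M i) :=
  V.of_injective (pre (inM (L := ModuleCat.of A N) (M := ModuleCat.of A M) r) (R⟦i⟧)) (fun x y hxy => by
    have e : inM (L := ModuleCat.of A M) (M := ModuleCat.of A N) s ≫
        inM (L := ModuleCat.of A N) (M := ModuleCat.of A M) r = 𝟙 _ := by
      rw [← Functor.map_comp, ← ModuleCat.ofHom_comp, hrs]
      exact CategoryTheory.Functor.map_id _ _
    have := congrArg (fun t => inM (L := ModuleCat.of A M) (M := ModuleCat.of A N) s ≫ t) hxy
    simp only [Linear.leftComp_apply] at this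
    rwa [← Category.assoc, ← Category.assoc, e, Category.id_comp, Category.id_comp] at this) h

theorem v_zero (q : PrimeSpectrum A) (M : Type u) [AddCommGroup M] [Module A M] [Subsingleton M] (i : ℤ) :
    V q (E R M i) :=
  haveI := subsingleton_ex_of_subsingleton (A := A) M (R⟦i⟧)
  V.of_subsingleton q _

theorem v_pi {q : PrimeSpectrum A} {M : Type u} [AddCommGroup M] [Module A M] {i : ℤ} (h : V q (E R M i)) :
    ∀ a : ℕ, V q (E R (Fin a → M) i)
  | 0 => v_zero R q _ i
  | a + 1 => v_congr R (Fin.consLinearEquiv A (fun _ : Fin (a + 1) => M)).symm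
      (v_mid R (LinearMap.inl A M (Fin a → M)) (LinearMap.snd A M (Fin a → M)) LinearMap.inl_injective
        LinearMap.snd_surjective Function.Exact.inl_snd h (v_pi h a))

/-- Finite modules killed by a prime are generically free over the quotient. -/
theorem exists_generic_free [IsNoetherianRing A] (p : Ideal A) [p.IsPrime] (M : Type u) [AddCommGroup M]
    [Module A M] [Module.Finite A M] (hM : ∀ y ∈ p, ∀ m : M, y • m = 0) :
    ∃ (a : ℕ) (ψ : (Fin a → A ⧸ p) →ₗ[A] M) (f : A), Function.Injective ψ ∧ f ∉ p ∧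
      ∀ m : M, f • m ∈ LinearMap.range ψ := by
  classical
  let S : Set (Submodule A M) := {N | ∃ (a : ℕ) (ψ : (Fin a → A ⧸ p) →ₗ[A] M), Function.Injective ψ ∧
    LinearMap.range ψ = N}
  obtain ⟨N, ⟨a, ψ, hψ, rfl⟩, hmax⟩ := set_has_maximal_iff_noetherian.2 inferInstance S
    ⟨⊥, 0, 0, fun v w _ => Subsingleton.elim v w, LinearMap.range_zero⟩
  have ht : ∀ m : M, ∃ f ∉ p, f • m ∈ LinearMap.range ψ := fun m => by
    by_contra hcon
    push Not at hcon
    let θ : (A ⧸ p) →ₗ[A] M := p.liftQ (LinearMap.toSpanSingleton A M m) fun y hy => hM y hy m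
    let ψ' : (Fin (a + 1) → A ⧸ p) →ₗ[A] M :=
      (θ.coprod ψ).comp (Fin.consLinearEquiv A (fun _ : Fin (a + 1) => A ⧸ p)).symm.toLinearMap
    have hinj : Function.Injective (θ.coprod ψ) := by
      rw [injective_iff_map_eq_zero]
      rintro ⟨c, v⟩ h
      obtain ⟨c, rfl⟩ := Submodule.Quotient.mk_surjective p c
      change c • m + ψ v = 0 at h
      have hc : c ∈ p := by
        by_contra hc
        exact hcon c hc (by rw [eq_neg_of_add_eq_zero_left h]; exact ⟨-v, map_neg _ _⟩)
      rw [hM c hc, zero_add] at h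
      exact Prod.ext ((Submodule.Quotient.mk_eq_zero p).2 hc) (hψ (h.trans (map_zero ψ).symm))
    refine hmax (LinearMap.range ψ') ⟨a + 1, ψ', hinj.comp (LinearEquiv.injective _), rfl⟩ ?_
    refine lt_of_le_of_ne ?_ fun heq => hcon 1 ((Ideal.ne_top_iff_one p).1 (Ideal.IsPrime.ne_top') ) ?_
    · rintro _ ⟨v, rfl⟩
      exact ⟨Fin.cons 0 v, by simp [ψ', Fin.consLinearEquiv]⟩
    · rw [heq, one_smul]
      refine ⟨Fin.cons (Submodule.Quotient.mk 1) 0, ?_⟩
      show θ (Submodule.Quotient.mk 1) + ψ (Fin.tail (Fin.cons (Submodule.Quotient.mk 1) 0 : Fin (a + 1) → A ⧸ p)) = m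
      rw [Fin.tail_cons, map_zero, add_zero]
      exact one_smul A m
  obtain ⟨t, htt⟩ := (Module.finite_def.1 (inferInstance : Module.Finite A M))
  choose f hfp hf using ht
  refine ⟨a, ψ, ∏ m ∈ t, f m, hψ, ?_, fun m => ?_⟩
  · intro hmem
    obtain ⟨m, -, hm⟩ := (Ideal.IsPrime.prod_mem_iff (p := p)).1 hmem
    exact hfp m hm
  · have : (⊤ : Submodule A M) ≤ (LinearMap.range ψ).comap (LinearMap.lsmul A M (∏ m ∈ t, f m)) := by
      rw [← htt, Submodule.span_le]
      intro m hm
      show (∏ m ∈ t, f m) • m ∈ LinearMap.range ψ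
      rw [← Finset.prod_erase_mul _ _ hm, mul_smul]
      exact Submodule.smul_mem _ _ (hf m)
    exact this Submodule.mem_top

/-- The behaviour at `q` of a finite module killed by `p`. -/
theorem exists_dichotomy [IsNoetherianRing A] (p : Ideal A) [p.IsPrime] (M : Type u) [AddCommGroup M]
    [Module A M] [Module.Finite A M] (hM : ∀ y ∈ p, ∀ m : M, y • m = 0) :
    ∃ f ∉ p, ∀ q : PrimeSpectrum A, f ∉ q.asIdeal →
      (∀ i, V q (E R (A ⧸ p) i) → V q (E R M i)) ∧
        ((∀ i, V q (E R M i)) ∨ ∀ i, V q (E R M i) → V q (E R (A ⧸ p) i)) := by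
  obtain ⟨a, ψ, f, hψ, hf, hrange⟩ := exists_generic_free p M hM
  refine ⟨f, hf, fun q hq => ?_⟩
  have hc : ∀ i, V q (E R (M ⧸ LinearMap.range ψ) i) := fun i => V.of_killed hq fun x =>
    smul_eq_zero_of_killed R (fun m => by
      obtain ⟨m, rfl⟩ := Submodule.Quotient.mk_surjective _ m
      exact (Submodule.Quotient.mk_eq_zero _).2 (hrange m)) x
  have hex : Function.Exact ψ (LinearMap.range ψ).mkQ := LinearMap.exact_map_mkQ_range ψ
  have hup : ∀ i, V q (E R (A ⧸ p) i) → V q (E R M i) := fun i h =>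
    v_mid R ψ _ hψ (Submodule.mkQ_surjective _) hex (v_pi R h a) (hc i)
  refine ⟨hup, ?_⟩
  cases a with
  | zero => exact Or.inl fun i => v_mid R ψ _ hψ (Submodule.mkQ_surjective _) hex (v_zero R q _ i) (hc i)
  | succ a =>
    refine Or.inr fun i h => ?_
    refine v_retract R (LinearMap.single A (fun _ : Fin (a + 1) => A ⧸ p) 0)
      (LinearMap.proj 0) (LinearMap.ext fun x => by simp) ?_
    exact v_left R ψ _ hψ (Submodule.mkQ_surjective _) hex rfl h (hc (i + 1))

section Bound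

variable [IsNoetherianRing A]

omit [IsNoetherianRing A] in
theorem step {q : PrimeSpectrum A} {B Z H : Type u} [AddCommGroup B] [Module A B] [AddCommGroup Z] [Module A Z]
    [AddCommGroup H] [Module A H] (f : B →ₗ[A] Z) (g : Z →ₗ[A] H) (hf : Function.Injective f)
    (hg : Function.Surjective g) (hfg : Function.Exact f g) {s l : ℤ} (hl : l ≤ s - 1)
    (hZ : ∀ i, s - 1 ≤ i → V q (E R Z i)) (hH : ∀ i, s < i → V q (E R H i))
    (hd : ¬ V q (E R H s) ∨ (∀ i, V q (E R H i)) ∧ ∃ i, l ≤ i ∧ ¬ V q (E R Z i)) :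
    (∀ i, s ≤ i → V q (E R B i)) ∧ ∃ i, l ≤ i ∧ ¬ V q (E R B i) := by
  refine ⟨fun i hi => v_left R f g hf hg hfg rfl (hZ i (by omega)) (hH (i + 1) (by omega)), ?_⟩
  rcases hd with hd | ⟨hd, i, hi, hZi⟩
  · exact ⟨s - 1, hl, fun h => hd (v_right R f g hf hg hfg (sub_add_cancel s 1) h (hZ s (by omega)))⟩
  · exact ⟨i, hi, fun h => hZi (v_mid R f g hf hg hfg h (hd i))⟩

/-- The uniform bound near a prime. -/
theorem exists_generic_bound (p : Ideal A) [p.IsPrime] {b : ℤ}
    (hA : ∀ i, b < i → Subsingleton (E R A i))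
    (hN : ∀ q : PrimeSpectrum A, ∃ N : ℤ, ∀ i, N < i → V q (E R (A ⧸ p) i)) :
    ∃ f ∉ p, ∃ c : ℤ, ∀ q : PrimeSpectrum A, f ∉ q.asIdeal → ∀ i, c < i → V q (E R (A ⧸ p) i) := by
  classical
  let P : ModuleCat.{u} A → Prop := fun M => ∀ i, b < i → Subsingleton (E R M i)
  obtain ⟨t, ht⟩ := IsNoetherian.noetherian p
  obtain ⟨K⟩ := exists_kz (P := P) hA
    (fun i _ => subsingleton_ex_of_subsingleton (A := A) PUnit.{u + 1} (R⟦i⟧))
    (fun M N hM hN i hi => by
      obtain ⟨δ, hT⟩ := exists_triangle (LinearMap.inl A M N) (LinearMap.snd A M N) LinearMap.inl_injective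
        LinearMap.snd_surjective Function.Exact.inl_snd
      exact subsingleton_pre₂ _ hT (hM i hi) (hN i hi)) t.toList
  have hl : Ideal.ofList t.toList = p := by
    rw [Ideal.ofList]
    simpa using ht
  let r := t.toList.length
  haveI := K.fin
  have hle : ∀ j, LinearMap.range (K.d (j + 1)) ≤ LinearMap.ker (K.d j) := fun j => by
    rintro _ ⟨a, rfl⟩
    exact K.dd j a
  let ι := fun j => Submodule.inclusion (hle j)
  let H : ℕ → Type u := fun j => LinearMap.ker (K.d j) ⧸ LinearMap.range (ι j)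
  haveI : ∀ j, Module.Finite A (H j) := fun j => inferInstanceAs (Module.Finite A (_ ⧸ LinearMap.range (ι j)))
  have hkill : ∀ j, ∀ y ∈ p, ∀ m : H j, y • m = 0 := fun j y hy m => by
    obtain ⟨z, rfl⟩ := Submodule.Quotient.mk_surjective _ m
    refine (Submodule.Quotient.mk_eq_zero _).2 ?_
    have : p ≤ Submodule.comap (LinearMap.toSpanSingleton A _ z) (LinearMap.range (ι j)) := by
      rw [← hl, Ideal.ofList, Ideal.span_le]
      intro y hy
      obtain ⟨h, -, h1⟩ := K.kill y hy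
      refine ⟨⟨y • (z : K.C (j + 1)), ⟨h (j + 1) z, ?_⟩⟩, Subtype.ext rfl⟩
      have h2 := h1 j z
      rwa [LinearMap.mem_ker.1 z.2, map_zero, add_zero] at h2
    exact this hy
  choose fj hfj hdich using fun j => exists_dichotomy R p (H j) (hkill j)
  refine ⟨∏ j ∈ Finset.range (r + 1), fj j, fun hmem => ?_, b + r + 2, fun q hq => ?_⟩
  · obtain ⟨j, -, hj⟩ := (Ideal.IsPrime.prod_mem_iff (p := p)).1 hmem
    exact hfj j hj
  have hq' : ∀ j, j ≤ r → fj j ∉ q.asIdeal := fun j hj hm => hq (Ideal.mem_of_dvd _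
    (Finset.dvd_prod_of_mem fj (Finset.mem_range.2 (by omega))) hm)
  by_contra hcon
  push Not at hcon
  obtain ⟨i₀, hi₀, hV₀⟩ := hcon
  obtain ⟨N, hN⟩ := hN q
  obtain ⟨s, ⟨hs, hVs⟩, hmax⟩ := Int.exists_greatest_of_bdd (P := fun i => b + r + 2 < i ∧ ¬ V q (E R (A ⧸ p) i))
    ⟨N, fun z hz => not_lt.1 fun h => hz.2 (hN z h)⟩ ⟨i₀, hi₀, hV₀⟩
  have habove : ∀ i, s < i → V q (E R (A ⧸ p) i) := fun i hi => by
    by_contra h
    exact absurd (hmax i ⟨by omega, h⟩) (by omega)
  have hCV : ∀ j i, b < i → V q (E R (K.C j) i) := fun j i hi =>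
    haveI := K.good j i hi
    V.of_subsingleton q _
  have hinv : ∀ j, j ≤ r → (∀ i, s ≤ i → V q (E R (LinearMap.range (K.d j)) i)) ∧
      ∃ i, s - 1 - (j : ℤ) ≤ i ∧ ¬ V q (E R (LinearMap.range (K.d j)) i) := by
    intro j
    induction j with
    | zero =>
      intro _
      let e : (K.C 0 ⧸ LinearMap.range (K.d 0)) ≃ₗ[A] A ⧸ p :=
        Submodule.Quotient.equiv _ _ K.ε (by rw [K.hI, hl])
      exact step R (LinearMap.range (K.d 0)).subtype (LinearMap.range (K.d 0)).mkQ (Submodule.injective_subtype _)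
        (Submodule.mkQ_surjective _) (LinearMap.exact_subtype_mkQ _) (by omega) (fun i hi => hCV 0 i (by omega))
        (fun i hi => v_congr R e (habove i hi)) (Or.inl fun h => hVs (v_congr R e.symm h))
    | succ j ih =>
      intro hj
      obtain ⟨hup, i, hi, hVi⟩ := ih (by omega)
      have hex : Function.Exact (LinearMap.ker (K.d j)).subtype (K.d j).rangeRestrict := fun z =>
        ⟨fun hz => ⟨⟨z, LinearMap.mem_ker.2 (congrArg Subtype.val hz)⟩, rfl⟩,
          fun ⟨w, hw⟩ => Subtype.ext (hw ▸ LinearMap.mem_ker.1 w.2)⟩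
      have hsurj := (K.d j).surjective_rangeRestrict
      have hZ : ∀ i, s - 1 ≤ i → V q (E R (LinearMap.ker (K.d j)) i) := fun i hi =>
        v_left R _ _ (Submodule.injective_subtype _) hsurj hex rfl (hCV (j + 1) i (by omega)) (hup (i + 1) (by omega))
      have hZi : ¬ V q (E R (LinearMap.ker (K.d j)) (i - 1)) := fun h => hVi
        (v_right R _ _ (Submodule.injective_subtype _) hsurj hex (sub_add_cancel i 1) h (hCV (j + 1) i (by omega)))
      obtain ⟨hHup, hH⟩ := hdich j q (hq' j (by omega))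
      refine step R (ι j) (LinearMap.range (ι j)).mkQ (Submodule.inclusion_injective _)
        (Submodule.mkQ_surjective _) (LinearMap.exact_map_mkQ_range _) (by omega) hZ
        (fun i hi => hHup i (habove i hi)) ?_
      rcases hH with hH | hH
      · exact Or.inr ⟨hH, i - 1, by omega, hZi⟩
      · exact Or.inl fun h => hVs (hH s h)
  obtain ⟨-, i, -, hVi⟩ := hinv r le_rfl
  haveI := K.top (r + 1) (Nat.lt_succ_self r)
  haveI : Subsingleton (LinearMap.range (K.d r)) := ⟨fun x y => by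
    obtain ⟨x, a, rfl⟩ := x
    obtain ⟨y, c, rfl⟩ := y
    exact Subtype.ext (congrArg (K.d r) (Subsingleton.elim a c))⟩
  exact hVi (v_zero R q _ i)

end Bound

/-- Pointwise finite injective dimension gives a bound for each finite module. -/
theorem exists_bound [IsNoetherianRing A] {a b : ℤ} (hbdd : ∀ i : ℤ, (i < a ∨ b < i) → Subsingleton (Dual.HD A R i))
    [∀ p : PrimeSpectrum A, DRing.HasLBaseChange (algebraMap A (Localization.AtPrime p.asIdeal))]
    (hpw : ∀ p : PrimeSpectrum A, DRing.HasFiniteInjDim (Localization.AtPrime p.asIdeal)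
      ((DRing.LBaseChange (algebraMap A (Localization.AtPrime p.asIdeal))).obj R))
    (M : Type u) [AddCommGroup M] [Module A M] [Module.Finite A M] :
    ∃ N : ℤ, ∀ i : ℤ, N < i → Subsingleton (E R M i) := by
  haveI : ∀ q : PrimeSpectrum A, Module.Flat A (Loc q) := fun q => IsLocalization.flat _ q.asIdeal.primeCompl
  have hA : ∀ i, b < i → Subsingleton (E R A i) := fun i hi =>
    haveI := hbdd i (Or.inr hi)
    (evalEquiv R i).injective.subsingleton
  have hlocal : ∀ q : PrimeSpectrum A, ∃ N : ℤ, ∀ (W : Type u) [AddCommGroup W] [Module A W] [Module.Finite A W]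
      (i : ℤ), N < i → V q (E R W i) := fun q => by
    obtain ⟨a', b', h⟩ := Ext.fid_iff.2 (hpw q)
    refine ⟨b', fun W _ _ _ i hi x => ?_⟩
    let e : (FD A (Loc q)).obj (Dual.inD A W) ≅ Dual.inD (Loc q) ((F A (Loc q)).obj (ModuleCat.of A W)) :=
      ((F A (Loc q)).mapDerivedCategorySingleFunctor 0).app (ModuleCat.of A W)
    haveI := h ((F A (Loc q)).obj (ModuleCat.of A W)) i (Or.inr hi)
    haveI : Subsingleton (Ex ((FD A (Loc q)).obj (Dual.inD A W)) ((FD A (Loc q)).obj R) i) :=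
      ((preIso e.symm _).trans (postIso _ ((shiftFunctor (Dual.D (Loc q)) i).mapIso
        (FlatBC.lbaseIso R).symm))).injective.subsingleton
    haveI := (FlatBC.exBC (B := Loc q) (FlatBC.bij_module_of_bounded (a := a - i)
      (FlatBC.subsingleton_HD_shift (fun j hj => hbdd j (Or.inl hj)) i) W)).injective.subsingleton
    exact HT.exists_smul_eq_zero_of_tmul q (Subsingleton.elim ((1 : Loc q) ⊗ₜ[A] x) 0)
  suffices H : ∀ (J : Ideal A) (W : Type u) [AddCommGroup W] [Module A W] [Module.Finite A W],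
      (∀ y ∈ J, ∀ w : W, y • w = 0) → ∃ N : ℤ, ∀ i : ℤ, N < i → Subsingleton (E R W i) from
    H ⊥ M fun y hy w => by rw [Submodule.mem_bot A |>.1 hy, zero_smul]
  intro J
  induction J using WellFoundedGT.induction with
  | _ J ih => ?_
  intro W _ _ _ hW
  have glue : ∀ {L N : Type u} [AddCommGroup L] [Module A L] [AddCommGroup N] [Module A N] (f : L →ₗ[A] W)
      (g : W →ₗ[A] N), Function.Injective f → Function.Surjective g → Function.Exact f g →
      (∃ N₁ : ℤ, ∀ i, N₁ < i → Subsingleton (E R L i)) → (∃ N₂ : ℤ, ∀ i, N₂ < i → Subsingleton (E R N i)) →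
      ∃ N₀ : ℤ, ∀ i, N₀ < i → Subsingleton (E R W i) := by
    intro L N _ _ _ _ f g hf hg hfg ⟨N₁, h₁⟩ ⟨N₂, h₂⟩
    obtain ⟨δ, hT⟩ := exists_triangle f g hf hg hfg
    exact ⟨max N₁ N₂, fun i hi => subsingleton_pre₂ _ hT (h₁ i (lt_of_le_of_lt (le_max_left _ _) hi))
      (h₂ i (lt_of_le_of_lt (le_max_right _ _) hi))⟩
  have lt_sup : ∀ c, c ∉ J → J < J ⊔ Ideal.span {c} := fun c hc =>
    lt_of_le_of_ne le_sup_left fun h => hc (h ▸ Ideal.mem_sup_right (Ideal.mem_span_singleton_self c))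
  by_cases hJ : J.IsPrime
  · have hfree : ∃ N : ℤ, ∀ i, N < i → Subsingleton (E R (A ⧸ J) i) := by
      obtain ⟨f, hf, c, hc⟩ := exists_generic_bound R J hA fun q =>
        (hlocal q).imp fun N h i hi => h (A ⧸ J) i hi
      let μ : (A ⧸ J) →ₗ[A] (A ⧸ J) := f • LinearMap.id
      have hμ : Function.Injective μ := (injective_iff_map_eq_zero μ).2 fun x hx => by
        obtain ⟨x, rfl⟩ := Submodule.Quotient.mk_surjective J x
        exact (Submodule.Quotient.mk_eq_zero J).2
          ((hJ.mem_or_mem ((Submodule.Quotient.mk_eq_zero J).1 (show Submodule.Quotient.mk (f • x) = 0 from hx))).resolve_left hf)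
      obtain ⟨N, hN⟩ := ih (J ⊔ Ideal.span {f}) (lt_sup f hf) ((A ⧸ J) ⧸ LinearMap.range μ) fun y hy w => by
        obtain ⟨y₁, hy₁, y₂, hy₂, rfl⟩ := Submodule.mem_sup.1 hy
        obtain ⟨c', rfl⟩ := Ideal.mem_span_singleton'.1 hy₂
        obtain ⟨w, rfl⟩ := Submodule.Quotient.mk_surjective _ w
        refine (Submodule.Quotient.mk_eq_zero _).2 ?_
        beta_reduce
        rw [add_smul]
        refine add_mem ?_ ⟨c' • w, by simp [μ, smul_smul, mul_comm]⟩
        obtain ⟨w, rfl⟩ := Submodule.Quotient.mk_surjective J w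
        rw [(Submodule.Quotient.mk_eq_zero J).2 (show y₁ • w ∈ J from J.mul_mem_right _ hy₁) |> (Submodule.Quotient.mk_smul J y₁ w).symm.trans]
        exact zero_mem _
      obtain ⟨δ, hT⟩ := exists_triangle μ (LinearMap.range μ).mkQ hμ (Submodule.mkQ_surjective _)
        (LinearMap.exact_map_mkQ_range μ)
      refine ⟨max c N, fun i hi => subsingleton_of_forall_eq 0 fun x => ?_⟩
      have hinj : Function.Injective (pre (inM (L := ModuleCat.of A (A ⧸ J)) (M := ModuleCat.of A (A ⧸ J)) μ)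
          (R⟦i⟧)) := injective_pre₁ _ hT (hN i (lt_of_le_of_lt (le_max_right _ _) hi))
      have hsm : ∀ y : E R (A ⧸ J) i, pre (inM (L := ModuleCat.of A (A ⧸ J)) (M := ModuleCat.of A (A ⧸ J)) μ)
          (R⟦i⟧) y = f • y := fun y => by
        show inM (L := ModuleCat.of A (A ⧸ J)) (M := ModuleCat.of A (A ⧸ J)) μ ≫ y = _
        rw [inM, show ModuleCat.ofHom μ = f • 𝟙 _ from rfl, inM_smul_id, Linear.smul_comp, Category.id_comp]
      have hann : f ∈ Ideal.radical (LinearMap.ker (LinearMap.toSpanSingleton A _ x)) := by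
        rw [Ideal.radical_eq_sInf, Submodule.mem_sInf]
        rintro 𝔮 ⟨hle, h𝔮⟩
        by_contra hf𝔮
        obtain ⟨s, hs, hsx⟩ := hc ⟨𝔮, h𝔮⟩ hf𝔮 i (lt_of_le_of_lt (le_max_left _ _) hi) x
        exact hs (hle hsx)
      obtain ⟨n, hn⟩ := hann
      have hinjn : ∀ (n : ℕ) (y : E R (A ⧸ J) i), f ^ n • y = 0 → y = 0 := fun n => by
        induction n with
        | zero => exact fun y hy => by rwa [pow_zero, one_smul] at hy
        | succ n ih' => exact fun y hy => hinj (((hsm y).trans (ih' _ (by rwa [pow_succ, mul_smul] at hy))).trans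
            (map_zero _).symm)
      exact hinjn n x hn
    obtain ⟨a', ψ, f, hψ, hf, hrange⟩ := exists_generic_free J W hW
    refine glue ψ (LinearMap.range ψ).mkQ hψ (Submodule.mkQ_surjective _) (LinearMap.exact_map_mkQ_range ψ) ?_ ?_
    · obtain ⟨N, hN⟩ := hfree
      refine ⟨N, fun i hi => ?_⟩
      haveI := hN i hi
      induction a' with
      | zero => exact subsingleton_ex_of_subsingleton (A := A) _ _
      | succ a' _ =>
        refine subsingleton_of_forall_eq 0 fun x => ?_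
        have hv : ∀ q : PrimeSpectrum A, V q (E R (Fin (a' + 1) → A ⧸ J) i) := fun q =>
          v_pi R (V.of_subsingleton q _) _
        have : LinearMap.ker (LinearMap.toSpanSingleton A _ x) = ⊤ := by
          by_contra h
          obtain ⟨𝔪, h𝔪, hle⟩ := Ideal.exists_le_maximal _ h
          obtain ⟨s, hs, hsx⟩ := hv ⟨𝔪, h𝔪.isPrime⟩ x
          exact hs (hle hsx)
        have h1 : (1 : A) ∈ LinearMap.ker (LinearMap.toSpanSingleton A _ x) := this ▸ Submodule.mem_top
        simpa using h1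
    · refine ih (J ⊔ Ideal.span {f}) (lt_sup f hf) (W ⧸ LinearMap.range ψ) fun y hy w => ?_
      obtain ⟨y₁, hy₁, y₂, hy₂, rfl⟩ := Submodule.mem_sup.1 hy
      obtain ⟨c', rfl⟩ := Ideal.mem_span_singleton'.1 hy₂
      obtain ⟨w, rfl⟩ := Submodule.Quotient.mk_surjective _ w
      refine (Submodule.Quotient.mk_eq_zero _).2 ?_
      beta_reduce
      rw [add_smul, hW y₁ hy₁, zero_add, mul_smul]
      exact Submodule.smul_mem _ _ (hrange w)
  · by_cases htop : J = ⊤
    · haveI : Subsingleton W := ⟨fun x y => by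
        rw [← one_smul A x, ← one_smul A y, hW 1 (htop ▸ Submodule.mem_top), hW 1 (htop ▸ Submodule.mem_top)]⟩
      exact ⟨0, fun i _ => subsingleton_ex_of_subsingleton (A := A) _ _⟩
    · obtain ⟨c, hc, d, hd, hcd⟩ := Ideal.not_isPrime_iff.1 hJ |>.resolve_left htop
      let L : Submodule A W := LinearMap.range (LinearMap.lsmul A W c)
      refine glue L.subtype L.mkQ (Submodule.injective_subtype _) (Submodule.mkQ_surjective _)
        (LinearMap.exact_subtype_mkQ L) ?_ ?_
      · refine ih (J ⊔ Ideal.span {d}) (lt_sup d hd) L fun y hy w => ?_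
        obtain ⟨y₁, hy₁, y₂, hy₂, rfl⟩ := Submodule.mem_sup.1 hy
        obtain ⟨c', rfl⟩ := Ideal.mem_span_singleton'.1 hy₂
        obtain ⟨_, w, rfl⟩ := w
        refine Subtype.ext ?_
        show (y₁ + c' * d) • (c • w) = 0
        rw [add_smul, hW y₁ hy₁, zero_add, smul_smul, mul_assoc, mul_comm d c, mul_smul, hW _ hcd, smul_zero]
      · refine ih (J ⊔ Ideal.span {c}) (lt_sup c hc) (W ⧸ L) fun y hy w => ?_
        obtain ⟨y₁, hy₁, y₂, hy₂, rfl⟩ := Submodule.mem_sup.1 hy
        obtain ⟨c', rfl⟩ := Ideal.mem_span_singleton'.1 hy₂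
        obtain ⟨w, rfl⟩ := Submodule.Quotient.mk_surjective _ w
        refine (Submodule.Quotient.mk_eq_zero _).2 ?_
        beta_reduce
        rw [add_smul, hW y₁ hy₁, zero_add, mul_smul]
        exact Submodule.smul_mem _ _ ⟨w, rfl⟩

end Groth.Agent.H4DR.PtwiseFID
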